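import Mathlib
import Groth.Agent.Lib.Helper4.NagRed
import Groth.Agent.Lib.Helper26.NagThmA
import Groth.Agent.Lib.Helper23.NodalGlueA
import Groth.Agent.Lib.Helper6.NormBlow

/-! Ring-level core of S7327: a finite type domain `B` over a Noetherian local ring `A` whose base
change to the completion of `A` is reduced away from the closed fibre is N-1. -/

set_option autoImplicit false

namespace Groth.Agent.Lib.Helper14.NormCpl

open TensorProduct IsLocalRing

universe u

section

variable (A : Type u) [CommRing A] [IsLocalRing A] [IsNoetherianRing A]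
variable (B : Type u) [CommRing B] [IsDomain B] [Algebra A B] [Algebra.FiniteType A B]

/-- Case where the maximal ideal of `A` dies in `B`: `B` is of finite type over a field. -/
theorem finite_integralClosure_of_map_eq_zero
    (h : ∀ a ∈ maximalIdeal A, algebraMap A B a = 0) :
    Module.Finite B (integralClosure B (FractionRing B)) := by
  let κ := A ⧸ maximalIdeal A
  letI : Field κ := Ideal.Quotient.field _
  let φ : κ →+* B := Ideal.Quotient.lift (maximalIdeal A) (algebraMap A B) h
  letI : Algebra κ B := φ.toAlgebra
  haveI : IsScalarTower A κ B := IsScalarTower.of_algebraMap_eq fun a => rfl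
  haveI : Algebra.FiniteType κ B := Algebra.FiniteType.of_restrictScalars_finiteType A κ B
  have hN : CAlg.IsNagata B :=
    Groth.Agent.Lib.Helper26.NagThmA.isNagata_of_finiteType κ
      (Groth.Agent.Lib.Helper23.NodalGlue.isNagata_field κ) B
  exact Groth.Agent.Lib.Helper6.NormBlow.n1_of_nagata B hN

end

section Case1

variable (A : Type u) [CommRing A] [IsLocalRing A] [IsNoetherianRing A]
variable (B : Type u) [CommRing B] [IsDomain B] [Algebra A B] [Algebra.FiniteType A B]
variable (B' : Type u) [CommRing B'] [Algebra A B'] [Algebra B B']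
  [Algebra (AdicCompletion (maximalIdeal A) A) B'] [IsScalarTower A B B']
  [IsScalarTower A (AdicCompletion (maximalIdeal A) A) B']
  [Algebra.IsPushout A B (AdicCompletion (maximalIdeal A) A) B']

include A in
theorem faithfullyFlat_pushout : Module.FaithfullyFlat B B' := by
  haveI := Groth.Agent.Lib.Helper4.NagRed.faithfullyFlat_completion A
  exact Module.FaithfullyFlat.of_linearEquiv B (B ⊗[A] AdicCompletion (maximalIdeal A) A)
    (Algebra.IsPushout.equiv A B (AdicCompletion (maximalIdeal A) A) B').symm.toLinearEquiv

include A B in
theorem isNagata_pushout : CAlg.IsNagata B' := by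
  haveI : Algebra.IsPushout A (AdicCompletion (maximalIdeal A) A) B B' :=
    Algebra.IsPushout.symm inferInstance
  haveI : Algebra.FiniteType (AdicCompletion (maximalIdeal A) A)
      (AdicCompletion (maximalIdeal A) A ⊗[A] B) := inferInstance
  haveI : Algebra.FiniteType (AdicCompletion (maximalIdeal A) A) B' :=
    Algebra.FiniteType.equiv inferInstance
      (Algebra.IsPushout.equiv A (AdicCompletion (maximalIdeal A) A) B B')
  exact Groth.Agent.Lib.Helper26.NagThmA.isNagata_of_finiteType _
    (Groth.Agent.Lib.Helper4.NagRed.isNagata_completion A) B'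

/-- Reducedness of the base change, from reducedness away from the closed fibre. -/
theorem isReduced_pushout (a : A) (ha : a ∈ maximalIdeal A) (hab : algebraMap A B a ≠ 0)
    (H : ∀ q : Ideal B', q.IsPrime →
      q.comap (algebraMap (AdicCompletion (maximalIdeal A) A) B') ≠
        maximalIdeal (AdicCompletion (maximalIdeal A) A) →
      ∀ n : B', IsNilpotent n → ∃ s : B', s ∉ q ∧ s * n = 0) :
    IsReduced B' := by
  haveI := faithfullyFlat_pushout A B B'
  set b' : B' := algebraMap A B' a with hb'
  have hb'B : b' = algebraMap B B' (algebraMap A B a) := IsScalarTower.algebraMap_apply A B B' a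
  have hb'C : b' = algebraMap (AdicCompletion (maximalIdeal A) A) B'
      (algebraMap A (AdicCompletion (maximalIdeal A) A) a) :=
    IsScalarTower.algebraMap_apply A (AdicCompletion (maximalIdeal A) A) B' a
  have hreg : ∀ y : B', b' * y = 0 → y = 0 := by
    intro y hy
    have h1 : IsSMulRegular B (algebraMap A B a) :=
      (isRegular_of_ne_zero hab).left.isSMulRegular
    have h2 : IsSMulRegular B' (algebraMap A B a) := Module.Flat.isSMulRegular_of_isRegular
      (isRegular_of_ne_zero hab)
    refine h2 ?_
    show (algebraMap A B a) • y = (algebraMap A B a) • (0 : B')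
    rw [smul_zero, Algebra.smul_def, ← hb'B]
    exact hy
  have hamem : algebraMap A (AdicCompletion (maximalIdeal A) A) a ∈
      maximalIdeal (AdicCompletion (maximalIdeal A) A) := by
    by_contra hnot
    have hu : IsUnit (algebraMap A (AdicCompletion (maximalIdeal A) A) a) :=
      (IsLocalRing.notMem_maximalIdeal).mp hnot
    haveI := Groth.Agent.Lib.Helper4.NagRed.faithfullyFlat_completion A
    haveI : IsLocalHom (algebraMap A (AdicCompletion (maximalIdeal A) A)) := inferInstance
    exact (IsLocalRing.mem_maximalIdeal _).mp ha (IsUnit.of_map _ a hu)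
  refine ⟨fun n hn => ?_⟩
  have hrad : b' ∈ (Ideal.span {n}).annihilator.radical := by
    rw [Ideal.radical_eq_sInf, Ideal.mem_sInf]
    rintro q ⟨hJq, hq⟩
    by_contra hbq
    have hcomap : q.comap (algebraMap (AdicCompletion (maximalIdeal A) A) B') ≠
        maximalIdeal (AdicCompletion (maximalIdeal A) A) := by
      intro h
      apply hbq
      have : algebraMap A (AdicCompletion (maximalIdeal A) A) a ∈
          q.comap (algebraMap (AdicCompletion (maximalIdeal A) A) B') := by
        rw [h]
        exact hamem
      rw [hb'C]
      exact this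
    obtain ⟨s, hsq, hsn⟩ := H q hq hcomap n hn
    apply hsq
    apply hJq
    rw [Submodule.mem_annihilator_span_singleton]
    rw [smul_eq_mul]
    exact hsn
  obtain ⟨k, hk⟩ := hrad
  rw [Submodule.mem_annihilator_span_singleton, smul_eq_mul] at hk
  clear hn
  induction k with
  | zero => simpa using hk
  | succ k ih =>
    apply ih
    apply hreg
    rw [← mul_assoc, ← pow_succ']
    exact hk

/-- Case where some element of the maximal ideal survives in `B`. -/
theorem finite_integralClosure_of_pushout (a : A) (ha : a ∈ maximalIdeal A)
    (hab : algebraMap A B a ≠ 0)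
    (H : ∀ q : Ideal B', q.IsPrime →
      q.comap (algebraMap (AdicCompletion (maximalIdeal A) A) B') ≠
        maximalIdeal (AdicCompletion (maximalIdeal A) A) →
      ∀ n : B', IsNilpotent n → ∃ s : B', s ∉ q ∧ s * n = 0) :
    Module.Finite B (integralClosure B (FractionRing B)) := by
  haveI := faithfullyFlat_pushout A B B'
  have hNag := isNagata_pushout A B B'
  haveI hred := isReduced_pushout A B B' a ha hab H
  haveI : IsReduced (B' ⊗[B] FractionRing B) :=
    isReduced_localizationPreserves (Algebra.algebraMapSubmonoid B' (nonZeroDivisors B))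
      (B' ⊗[B] FractionRing B) hred
  haveI : Module.Finite B (⊥ : Subalgebra B (FractionRing B)) := inferInstance
  refine Groth.Agent.Lib.Helper4.NagRed.finite_integralClosure_of_isReduced_tensor B B' hNag
    (FractionRing B) ⊥ ?_
  intro z
  obtain ⟨x, d, hd, rfl⟩ := IsFractionRing.div_surjective (A := B) z
  have hd0 : algebraMap B (FractionRing B) d ≠ 0 := by
    rw [Ne, map_eq_zero_iff _ (IsFractionRing.injective B (FractionRing B))]
    exact nonZeroDivisors.ne_zero hd
  refine ⟨d, hd0, ?_⟩
  rw [Algebra.smul_def, mul_div_cancel₀ _ hd0]
  exact Subalgebra.algebraMap_mem _ x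

end Case1

section Combined

variable (A : Type u) [CommRing A] [IsLocalRing A] [IsNoetherianRing A]
variable (B : Type u) [CommRing B] [IsDomain B] [Algebra A B] [Algebra.FiniteType A B]
variable (B' : Type u) [CommRing B'] [Algebra A B'] [Algebra B B']
  [Algebra (AdicCompletion (maximalIdeal A) A) B'] [IsScalarTower A B B']
  [IsScalarTower A (AdicCompletion (maximalIdeal A) A) B']
  [Algebra.IsPushout A B (AdicCompletion (maximalIdeal A) A) B']

theorem finite_integralClosure
    (H : ∀ q : Ideal B', q.IsPrime →
      q.comap (algebraMap (AdicCompletion (maximalIdeal A) A) B') ≠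
        maximalIdeal (AdicCompletion (maximalIdeal A) A) →
      ∀ n : B', IsNilpotent n → ∃ s : B', s ∉ q ∧ s * n = 0) :
    Module.Finite B (integralClosure B (FractionRing B)) := by
  by_cases h : ∀ a ∈ maximalIdeal A, algebraMap A B a = 0
  · exact finite_integralClosure_of_map_eq_zero A B h
  · push_neg at h
    obtain ⟨a, ha, hab⟩ := h
    exact finite_integralClosure_of_pushout A B B' a ha hab H

end Combined

end Groth.Agent.Lib.Helper14.NormCpl
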