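import Mathlib
import Groth.Agent.Lib.Helper14.NormCpl.Ring

/-! Ring-level core of S1633: variant of `NormCpl.Ring` where the base change to the completion is
only known to be reduced at the points over the generic point. -/

set_option autoImplicit false

namespace Groth.Agent.Lib.Helper14.NormCpl

open TensorProduct IsLocalRing

universe u

/-- If nilpotents of `B'` die at every prime of `B'` lying over the generic point of the domain `B`,
then `B' ⊗[B] Frac B` is reduced. -/
theorem isReduced_tensor_fractionRing (B : Type u) [CommRing B] [IsDomain B] (B' : Type u)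
    [CommRing B'] [Algebra B B']
    (H : ∀ q : Ideal B', q.IsPrime → q.comap (algebraMap B B') = ⊥ →
      ∀ n : B', IsNilpotent n → ∃ s : B', s ∉ q ∧ s * n = 0) :
    IsReduced (B' ⊗[B] FractionRing B) := by
  let M := Algebra.algebraMapSubmonoid B' (nonZeroDivisors B)
  haveI : IsLocalization M (B' ⊗[B] FractionRing B) := inferInstance
  refine ⟨fun z hz => ?_⟩
  obtain ⟨b', m, rfl⟩ := IsLocalization.exists_mk'_eq M z
  have h1 : IsNilpotent (algebraMap B' (B' ⊗[B] FractionRing B) b') := by
    have : algebraMap B' (B' ⊗[B] FractionRing B) b' =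
        IsLocalization.mk' (B' ⊗[B] FractionRing B) b' m *
          algebraMap B' (B' ⊗[B] FractionRing B) m := by
      rw [IsLocalization.mk'_spec]
    rw [this]
    exact (Commute.all _ _).isNilpotent_mul_right hz
  obtain ⟨k, hk⟩ := h1
  rw [← map_pow, IsLocalization.map_eq_zero_iff M] at hk
  obtain ⟨c, hc⟩ := hk
  have hn : IsNilpotent ((c : B') * b') := by
    refine ⟨k + 1, ?_⟩
    have : ((c : B') * b') ^ (k + 1) = ((c : B') ^ k * b') * ((c : B') * b' ^ k) := by ring
    rw [this, hc, mul_zero]
  have hex : ∃ t ∈ M, t * ((c : B') * b') = 0 := by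
    by_contra hno
    push_neg at hno
    let I : Ideal B' := (Submodule.span B' {(c : B') * b'}).annihilator
    have hI : ∀ t : B', t ∈ I ↔ t * ((c : B') * b') = 0 := fun t => by
      simp only [I, Submodule.mem_annihilator_span_singleton, smul_eq_mul]
    have hdisj : Disjoint (I : Set B') (M : Set B') := by
      rw [Set.disjoint_left]
      intro t htI htM
      exact hno t htM ((hI t).mp htI)
    obtain ⟨q, hq, hIq, hqM⟩ := Ideal.exists_le_prime_disjoint I M hdisj
    have hq0 : q.comap (algebraMap B B') = ⊥ := by
      rw [eq_bot_iff]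
      intro b hb
      by_contra hb0
      have hbM : algebraMap B B' b ∈ M := ⟨b, mem_nonZeroDivisors_of_ne_zero hb0, rfl⟩
      exact Set.disjoint_left.mp hqM hb hbM
    obtain ⟨s, hsq, hsn⟩ := H q hq hq0 _ hn
    exact hsq (hIq ((hI s).mpr hsn))
  obtain ⟨t, htM, htn⟩ := hex
  rw [IsLocalization.mk'_eq_zero_iff]
  exact ⟨⟨t * c, M.mul_mem htM c.2⟩, by simpa [mul_assoc] using htn⟩

section

variable (A : Type u) [CommRing A] [IsLocalRing A] [IsNoetherianRing A]
variable (B : Type u) [CommRing B] [IsDomain B] [Algebra A B] [Algebra.FiniteType A B]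
variable (B' : Type u) [CommRing B'] [Algebra A B'] [Algebra B B']
  [Algebra (AdicCompletion (maximalIdeal A) A) B'] [IsScalarTower A B B']
  [IsScalarTower A (AdicCompletion (maximalIdeal A) A) B']
  [Algebra.IsPushout A B (AdicCompletion (maximalIdeal A) A) B']

include A in
theorem finite_integralClosure_of_generic
    (H : ∀ q : Ideal B', q.IsPrime → q.comap (algebraMap B B') = ⊥ →
      ∀ n : B', IsNilpotent n → ∃ s : B', s ∉ q ∧ s * n = 0) :
    Module.Finite B (integralClosure B (FractionRing B)) := by
  haveI := faithfullyFlat_pushout A B B'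
  have hNag := isNagata_pushout A B B'
  haveI := isReduced_tensor_fractionRing B B' H
  haveI : Module.Finite B (⊥ : Subalgebra B (FractionRing B)) := inferInstance
  refine Groth.Agent.Lib.Helper4.NagRed.finite_integralClosure_of_isReduced_tensor B B' hNag
    (FractionRing B) ⊥ ?_
  intro z
  obtain ⟨x, d, hd, rfl⟩ := IsFractionRing.div_surjective (A := B) z
  have hd0 : algebraMap B (FractionRing B) d ≠ 0 := by
    rw [Ne, map_eq_zero_iff _ (IsFractionRing.injective B (FractionRing B))]
    exact nonZeroDivisors.ne_zero hd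
  refine ⟨d, hd0, ?_⟩
  rw [Algebra.smul_def, mul_div_cancel₀ _ hd0]
  exact Subalgebra.algebraMap_mem _ x

end

end Groth.Agent.Lib.Helper14.NormCpl
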