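import Mathlib
import Groth.Prelude.Def_Curv2
import Groth.Agent.Lib.Helper14.NormCpl.Ring
import Groth.Agent.Lib.Helper12.NormAff

/-! Scheme-level plumbing for S7327. -/

set_option autoImplicit false
set_option linter.style.haveILetI false
universe u
open CategoryTheory CategoryTheory.Limits AlgebraicGeometry IsLocalRing

namespace Groth.Agent.Lib.Helper14.NormCpl

variable (A : Type u) [CommRing A] [IsLocalRing A] [IsNoetherianRing A]
    {X : Scheme.{u}} (f : X ⟶ Spec (CommRingCat.of A))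

/-- The pushout square of sections. -/
theorem isPushout_sections (U : X.Opens) (hU : IsAffineOpen U) :
    IsPushout
      ((Scheme.ΓSpecIso (CommRingCat.of A)).inv ≫ f.appLE ⊤ U le_top)
      (CommRingCat.ofHom (algebraMap A (Curv2.cpl A)))
      ((Curv2.bcCplFst A f).app U)
      ((Scheme.ΓSpecIso (CommRingCat.of (Curv2.cpl A))).inv ≫
        (Curv2.bcCplSnd A f).appLE ⊤ ((Curv2.bcCplFst A f) ⁻¹ᵁ U) le_top) := by
  let g := Spec.map (CommRingCat.ofHom (algebraMap A (Curv2.cpl A)))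
  let fst := Curv2.bcCplFst A f
  let snd := Curv2.bcCplSnd A f
  let W := fst ⁻¹ᵁ U
  have hpb : IsPullback fst snd f g := IsPullback.of_hasPullback f g
  have hUY : W = fst ⁻¹ᵁ U ⊓ snd ⁻¹ᵁ ⊤ := by simp [W]
  have hiso := isIso_pushoutSection_of_isAffineOpen hpb (US := ⊤) (UT := ⊤) (UX := U)
    le_top le_top hUY (isAffineOpen_top _) (isAffineOpen_top _) hU
  have H0 := (isIso_pushoutSection_iff hpb le_top le_top hUY).mp hiso
  refine H0.of_iso (Scheme.ΓSpecIso _) (Iso.refl _) (Scheme.ΓSpecIso _) (Iso.refl _) ?_ ?_ ?_ ?_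
  · simp
  · have : g.appLE ⊤ ⊤ le_top = g.appTop := by simp [Scheme.Hom.appLE]
    rw [this]
    exact Scheme.ΓSpecIso_naturality _
  · simp [Scheme.Hom.appLE, W]
    rfl
  · simp
    rfl

end Groth.Agent.Lib.Helper14.NormCpl

namespace Groth.Agent.Lib.Helper14.NormCpl

variable (A : Type u) [CommRing A] [IsLocalRing A] [IsNoetherianRing A]
    {X : Scheme.{u}} (f : X ⟶ Spec (CommRingCat.of A))

instance : IsAffineHom (Curv2.bcCplFst A f) := by
  unfold Curv2.bcCplFst
  exact MorphismProperty.pullback_fst (P := @IsAffineHom) _ _ inferInstance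

theorem nilpotent_killed (U : X.Opens) (hU : IsAffineOpen U)
    (hY : ∀ y : ↥(Curv2.bcCpl A f),
      (Curv2.bcCplSnd A f).base y ≠ IsLocalRing.closedPoint (Curv2.cpl A) →
      IsDomain ((Curv2.bcCpl A f).presheaf.stalk y) ∧
        IsIntegrallyClosed ((Curv2.bcCpl A f).presheaf.stalk y))
    (q : Ideal Γ(Curv2.bcCpl A f, (Curv2.bcCplFst A f) ⁻¹ᵁ U)) (hq : q.IsPrime)
    (hne : q.comap ((Scheme.ΓSpecIso (CommRingCat.of (Curv2.cpl A))).inv ≫
        (Curv2.bcCplSnd A f).appLE ⊤ ((Curv2.bcCplFst A f) ⁻¹ᵁ U) le_top).hom ≠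
      maximalIdeal (Curv2.cpl A))
    (n : Γ(Curv2.bcCpl A f, (Curv2.bcCplFst A f) ⁻¹ᵁ U)) (hn : IsNilpotent n) :
    ∃ s, s ∉ q ∧ s * n = 0 := by
  let fst := Curv2.bcCplFst A f
  let snd := Curv2.bcCplSnd A f
  let W := fst ⁻¹ᵁ U
  have hW : IsAffineOpen W := hU.preimage fst
  let y : PrimeSpectrum Γ(Curv2.bcCpl A f, W) := ⟨q, hq⟩
  have hyW : hW.fromSpec y ∈ W := by
    rw [← SetLike.mem_coe, ← hW.range_fromSpec]
    exact ⟨y, rfl⟩
  letI : Algebra Γ(Curv2.bcCpl A f, W) ((Curv2.bcCpl A f).presheaf.stalk (hW.fromSpec y)) :=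
    TopCat.Presheaf.algebra_section_stalk (Curv2.bcCpl A f).presheaf ⟨hW.fromSpec y, hyW⟩
  haveI : IsLocalization.AtPrime ((Curv2.bcCpl A f).presheaf.stalk (hW.fromSpec y)) q :=
    hW.isLocalization_stalk' y hyW
  have hsnd : snd.base (hW.fromSpec y) ≠ IsLocalRing.closedPoint (Curv2.cpl A) := by
    intro h
    apply hne
    have h1 : hW.fromSpec ≫ snd = Spec.map ((Scheme.ΓSpecIso (CommRingCat.of (Curv2.cpl A))).inv ≫
        snd.appLE ⊤ W le_top) := by
      rw [← IsAffineOpen.SpecMap_appLE_fromSpec snd (isAffineOpen_top _) hW le_top,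
        IsAffineOpen.fromSpec_top, Scheme.isoSpec_Spec_inv, ← Spec.map_comp]
    have h2 : (Spec.map ((Scheme.ΓSpecIso (CommRingCat.of (Curv2.cpl A))).inv ≫
        snd.appLE ⊤ W le_top)).base y = IsLocalRing.closedPoint (Curv2.cpl A) := by
      rw [← h1]; exact h
    exact congrArg PrimeSpectrum.asIdeal h2
  obtain ⟨hdom, _⟩ := hY _ hsnd
  have h0 : algebraMap Γ(Curv2.bcCpl A f, W)
      ((Curv2.bcCpl A f).presheaf.stalk (hW.fromSpec y)) n = 0 := (hn.map _).eq_zero
  obtain ⟨s, hs⟩ := (IsLocalization.map_eq_zero_iff q.primeCompl _ n).mp h0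
  exact ⟨s.1, s.2, hs⟩

end Groth.Agent.Lib.Helper14.NormCpl

namespace Groth.Agent.Lib.Helper14.NormCpl

variable (A : Type u) [CommRing A] [IsLocalRing A] [IsNoetherianRing A]
    {X : Scheme.{u}} (f : X ⟶ Spec (CommRingCat.of A)) [LocallyOfFiniteType f]

theorem sections_finite (U : X.Opens) (hU : IsAffineOpen U) [IsDomain Γ(X, U)]
    (hY : ∀ y : ↥(Curv2.bcCpl A f),
      (Curv2.bcCplSnd A f).base y ≠ IsLocalRing.closedPoint (Curv2.cpl A) →
      IsDomain ((Curv2.bcCpl A f).presheaf.stalk y) ∧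
        IsIntegrallyClosed ((Curv2.bcCpl A f).presheaf.stalk y)) :
    Module.Finite Γ(X, U) (integralClosure Γ(X, U) (FractionRing Γ(X, U))) := by
  let fst := Curv2.bcCplFst A f
  let snd := Curv2.bcCplSnd A f
  let W := fst ⁻¹ᵁ U
  let φAB : A →+* Γ(X, U) :=
    ((Scheme.ΓSpecIso (CommRingCat.of A)).inv ≫ f.appLE ⊤ U le_top).hom
  let φBB' : Γ(X, U) →+* Γ(Curv2.bcCpl A f, W) := (fst.app U).hom
  let φCB' : Curv2.cpl A →+* Γ(Curv2.bcCpl A f, W) :=
    ((Scheme.ΓSpecIso (CommRingCat.of (Curv2.cpl A))).inv ≫ snd.appLE ⊤ W le_top).hom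
  letI : Algebra A Γ(X, U) := φAB.toAlgebra
  letI : Algebra Γ(X, U) Γ(Curv2.bcCpl A f, W) := φBB'.toAlgebra
  letI : Algebra (Curv2.cpl A) Γ(Curv2.bcCpl A f, W) := φCB'.toAlgebra
  letI : Algebra A Γ(Curv2.bcCpl A f, W) := (φBB'.comp φAB).toAlgebra
  haveI : IsScalarTower A Γ(X, U) Γ(Curv2.bcCpl A f, W) :=
    IsScalarTower.of_algebraMap_eq fun _ => rfl
  have HP := isPushout_sections A f U hU
  haveI : IsScalarTower A (Curv2.cpl A) Γ(Curv2.bcCpl A f, W) :=
    IsScalarTower.of_algebraMap_eq fun a => by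
      have := congrArg (fun h => h.hom a) HP.w
      exact this
  haveI : Algebra.IsPushout A Γ(X, U) (Curv2.cpl A) Γ(Curv2.bcCpl A f, W) :=
    (CommRingCat.isPushout_iff_isPushout).mp HP
  haveI : Algebra.FiniteType A Γ(X, U) := by
    have h1 : (f.appLE ⊤ U le_top).hom.FiniteType :=
      LocallyOfFiniteType.finiteType_appLE f (isAffineOpen_top _) hU le_top
    have h2 : φAB.FiniteType := by
      show ((f.appLE ⊤ U le_top).hom.comp
        (Scheme.ΓSpecIso (CommRingCat.of A)).inv.hom).FiniteType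
      refine h1.comp (RingHom.FiniteType.of_surjective _ ?_)
      exact (Scheme.ΓSpecIso (CommRingCat.of A)).symm.commRingCatIsoToRingEquiv.surjective
    exact h2
  exact finite_integralClosure A Γ(X, U) Γ(Curv2.bcCpl A f, W)
    (fun q hq hne n hn => nilpotent_killed A f U hU hY q hq hne n hn)

theorem isFinite_normalization [IsIntegral X]
    [QuasiCompact (X.fromSpecStalk (genericPoint X))]
    [QuasiSeparated (X.fromSpecStalk (genericPoint X))]
    (hY : ∀ y : ↥(Curv2.bcCpl A f),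
      (Curv2.bcCplSnd A f).base y ≠ IsLocalRing.closedPoint (Curv2.cpl A) →
      IsDomain ((Curv2.bcCpl A f).presheaf.stalk y) ∧
        IsIntegrallyClosed ((Curv2.bcCpl A f).presheaf.stalk y)) :
    IsFinite (Curv2.normalizationι X) := by
  show IsFinite (X.fromSpecStalk (genericPoint X)).fromNormalization
  refine { toIsAffineHom := inferInstance, finite_app := fun U hU => ?_ }
  by_cases hne : (U : Set X).Nonempty
  · refine Groth.Agent.Lib.Helper12.NormAff.app_finite_of_integralClosure_finite X hU hne ?_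
    haveI : Nonempty U := ⟨⟨_, hne.some_mem⟩⟩
    exact sections_finite A f U hU hY
  · exact Groth.Agent.Lib.Helper12.NormAff.app_finite_of_empty X hne

end Groth.Agent.Lib.Helper14.NormCpl
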