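import Mathlib
import Groth.Prelude.Def_Curv2
import Groth.Agent.Lib.Helper14.NormCpl.Sch
import Groth.Agent.Lib.Helper14.NormCpl.Ring2
import Groth.Agent.Lib.Helper22.SmoothRed

/-! Scheme-level plumbing for S1633. -/

set_option autoImplicit false
set_option linter.style.haveILetI false
universe u
open CategoryTheory CategoryTheory.Limits AlgebraicGeometry IsLocalRing

namespace Groth.Agent.Lib.Helper14.NormCpl

variable (A : Type u) [CommRing A] [IsLocalRing A] [IsNoetherianRing A]
    [IsReduced (AdicCompletion (IsLocalRing.maximalIdeal A) A)]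
    {X : Scheme.{u}} [IsIntegral X] (f : X ⟶ Spec (CommRingCat.of A))

theorem nilpotent_killed_generic (U : X.Opens) (hgen : genericPoint X ∈ U) [Etale (U.ι ≫ f)]
    (V : X.Opens) (hV : IsAffineOpen V) [Nonempty V]
    (q : Ideal Γ(Curv2.bcCpl A f, (Curv2.bcCplFst A f) ⁻¹ᵁ V)) (hq : q.IsPrime)
    (hq0 : q.comap ((Curv2.bcCplFst A f).app V).hom = ⊥)
    (n : Γ(Curv2.bcCpl A f, (Curv2.bcCplFst A f) ⁻¹ᵁ V)) (hn : IsNilpotent n) :
    ∃ s, s ∉ q ∧ s * n = 0 := by
  let g := Spec.map (CommRingCat.ofHom (algebraMap A (Curv2.cpl A)))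
  let fst := Curv2.bcCplFst A f
  let snd := Curv2.bcCplSnd A f
  let W := fst ⁻¹ᵁ V
  let YU := fst ⁻¹ᵁ U
  have hW : IsAffineOpen W := hV.preimage fst
  let y : PrimeSpectrum Γ(Curv2.bcCpl A f, W) := ⟨q, hq⟩
  have hyW : hW.fromSpec y ∈ W := by
    rw [← SetLike.mem_coe, ← hW.range_fromSpec]
    exact ⟨y, rfl⟩
  -- the open `YU` is étale over the reduced `Spec Â`, hence reduced
  have hpb : IsPullback (fst ∣_ U) (YU.ι ≫ snd) (U.ι ≫ f) g :=
    (isPullback_morphismRestrict fst U).paste_vert (IsPullback.of_hasPullback f g)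
  haveI : Etale (YU.ι ≫ snd) :=
    MorphismProperty.of_isPullback (P := @Etale) hpb (inferInstance : Etale (U.ι ≫ f))
  haveI : IsReduced (YU : Scheme.{u}) :=
    Groth.Agent.Lib.Helper22.SmoothRed.isReduced_of_smooth (YU.ι ≫ snd)
  -- `y` lies over the generic point of `X`
  have hfy : fst.base (hW.fromSpec y) = genericPoint X := by
    have h1 : hW.fromSpec ≫ fst = Spec.map (fst.appLE V W le_rfl) ≫ hV.fromSpec :=
      (IsAffineOpen.SpecMap_appLE_fromSpec fst hV hW le_rfl).symm
    have h2 : (hW.fromSpec ≫ fst).base y =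
        (Spec.map (fst.appLE V W le_rfl) ≫ hV.fromSpec).base y := by rw [h1]
    have h3 : (Spec.map (fst.appLE V W le_rfl)).base y = genericPoint (Spec Γ(X, V)) := by
      rw [genericPoint_eq_bot_of_affine]
      apply PrimeSpectrum.ext
      show q.comap (fst.appLE V W le_rfl).hom = ⊥
      rw [← Scheme.Hom.app_eq_appLE]
      exact hq0
    have h4 : hV.fromSpec (genericPoint (Spec Γ(X, V))) = genericPoint X := by
      rw [← hV.primeIdealOf_genericPoint]
      exact hV.fromSpec_primeIdealOf _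
    calc fst.base (hW.fromSpec y) = (hW.fromSpec ≫ fst).base y := rfl
      _ = (Spec.map (fst.appLE V W le_rfl) ≫ hV.fromSpec).base y := h2
      _ = hV.fromSpec ((Spec.map (fst.appLE V W le_rfl)).base y) := rfl
      _ = genericPoint X := by rw [h3, h4]
  have hyU : hW.fromSpec y ∈ YU := by
    show fst.base (hW.fromSpec y) ∈ U
    rw [hfy]; exact hgen
  haveI : IsReduced ((Curv2.bcCpl A f).presheaf.stalk (hW.fromSpec y)) := by
    haveI := isReduced_stalk_of_isReduced (X := (YU : Scheme.{u})) ⟨_, hyU⟩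
    exact isReduced_of_injective (YU.stalkIso ⟨_, hyU⟩).inv.hom
      (YU.stalkIso ⟨_, hyU⟩).symm.commRingCatIsoToRingEquiv.injective
  letI : Algebra Γ(Curv2.bcCpl A f, W) ((Curv2.bcCpl A f).presheaf.stalk (hW.fromSpec y)) :=
    TopCat.Presheaf.algebra_section_stalk (Curv2.bcCpl A f).presheaf ⟨hW.fromSpec y, hyW⟩
  haveI : IsLocalization.AtPrime ((Curv2.bcCpl A f).presheaf.stalk (hW.fromSpec y)) q :=
    hW.isLocalization_stalk' y hyW
  have h0 : algebraMap Γ(Curv2.bcCpl A f, W)
      ((Curv2.bcCpl A f).presheaf.stalk (hW.fromSpec y)) n = 0 := (hn.map _).eq_zero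
  obtain ⟨s, hs⟩ := (IsLocalization.map_eq_zero_iff q.primeCompl _ n).mp h0
  exact ⟨s.1, s.2, hs⟩

variable [LocallyOfFiniteType f]

theorem sections_finite_generic (U : X.Opens) (hgen : genericPoint X ∈ U) [Etale (U.ι ≫ f)]
    (V : X.Opens) (hV : IsAffineOpen V) [Nonempty V] :
    Module.Finite Γ(X, V) (integralClosure Γ(X, V) (FractionRing Γ(X, V))) := by
  let fst := Curv2.bcCplFst A f
  let snd := Curv2.bcCplSnd A f
  let W := fst ⁻¹ᵁ V
  let φAB : A →+* Γ(X, V) :=
    ((Scheme.ΓSpecIso (CommRingCat.of A)).inv ≫ f.appLE ⊤ V le_top).hom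
  let φBB' : Γ(X, V) →+* Γ(Curv2.bcCpl A f, W) := (fst.app V).hom
  let φCB' : Curv2.cpl A →+* Γ(Curv2.bcCpl A f, W) :=
    ((Scheme.ΓSpecIso (CommRingCat.of (Curv2.cpl A))).inv ≫ snd.appLE ⊤ W le_top).hom
  letI : Algebra A Γ(X, V) := φAB.toAlgebra
  letI : Algebra Γ(X, V) Γ(Curv2.bcCpl A f, W) := φBB'.toAlgebra
  letI : Algebra (Curv2.cpl A) Γ(Curv2.bcCpl A f, W) := φCB'.toAlgebra
  letI : Algebra A Γ(Curv2.bcCpl A f, W) := (φBB'.comp φAB).toAlgebra
  haveI : IsScalarTower A Γ(X, V) Γ(Curv2.bcCpl A f, W) :=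
    IsScalarTower.of_algebraMap_eq fun _ => rfl
  have HP := isPushout_sections A f V hV
  haveI : IsScalarTower A (Curv2.cpl A) Γ(Curv2.bcCpl A f, W) :=
    IsScalarTower.of_algebraMap_eq fun a => by
      have := congrArg (fun h => h.hom a) HP.w
      exact this
  haveI : Algebra.IsPushout A Γ(X, V) (Curv2.cpl A) Γ(Curv2.bcCpl A f, W) :=
    (CommRingCat.isPushout_iff_isPushout).mp HP
  haveI : Algebra.FiniteType A Γ(X, V) := by
    have h1 : (f.appLE ⊤ V le_top).hom.FiniteType :=
      LocallyOfFiniteType.finiteType_appLE f (isAffineOpen_top _) hV le_top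
    have h2 : φAB.FiniteType := by
      show ((f.appLE ⊤ V le_top).hom.comp
        (Scheme.ΓSpecIso (CommRingCat.of A)).inv.hom).FiniteType
      refine h1.comp (RingHom.FiniteType.of_surjective _ ?_)
      exact (Scheme.ΓSpecIso (CommRingCat.of A)).symm.commRingCatIsoToRingEquiv.surjective
    exact h2
  exact finite_integralClosure_of_generic A Γ(X, V) Γ(Curv2.bcCpl A f, W)
    (fun q hq hq0 n hn => nilpotent_killed_generic A f U hgen V hV q hq hq0 n hn)

theorem isFinite_normalization_generic (U : X.Opens) (hgen : genericPoint X ∈ U)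
    [Etale (U.ι ≫ f)]
    [QuasiCompact (X.fromSpecStalk (genericPoint X))]
    [QuasiSeparated (X.fromSpecStalk (genericPoint X))] :
    IsFinite (Curv2.normalizationι X) := by
  show IsFinite (X.fromSpecStalk (genericPoint X)).fromNormalization
  refine { toIsAffineHom := inferInstance, finite_app := fun V hV => ?_ }
  by_cases hne : (V : Set X).Nonempty
  · refine Groth.Agent.Lib.Helper12.NormAff.app_finite_of_integralClosure_finite X hV hne ?_
    haveI : Nonempty V := ⟨⟨_, hne.some_mem⟩⟩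
    exact sections_finite_generic A f U hgen V hV
  · exact Groth.Agent.Lib.Helper12.NormAff.app_finite_of_empty X hne

end Groth.Agent.Lib.Helper14.NormCpl
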